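import Groth.Agent.StalkHomLib.Lift
import Groth.Agent.PullbackMod.Basic

/-!
# Maps of modules on an affine open from maps of sections
-/

set_option autoImplicit false
set_option backward.isDefEq.respectTransparency false
set_option linter.style.haveILetI false
universe u

open CategoryTheory Limits Opposite TopologicalSpace AlgebraicGeometry
open Groth.Agent.CohBase Groth.Agent.PullbackMod

noncomputable section

namespace Groth.Agent.StalkHomLib

variable {X : Scheme.{u}}

theorem isIso_unit_of_isIso {Y : Scheme.{u}} (j : Y ⟶ X) [IsIso j] (N : X.Modules) :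
    IsIso ((Scheme.Modules.restrictAdjunction j).unit.app N) := by
  haveI : IsIso ((Scheme.Modules.toPresheaf X).map ((Scheme.Modules.restrictAdjunction j).unit.app N)) := by
    rw [NatTrans.isIso_iff_isIso_app]
    intro U
    show IsIso (((Scheme.Modules.restrictAdjunction j).unit.app N).app U.unop)
    rw [Scheme.Modules.restrictAdjunction_unit_app_app]
    have h : j ''ᵁ (j ⁻¹ᵁ U.unop) = U.unop := by
      rw [Scheme.Hom.image_preimage_eq_opensRange_inf, Scheme.Hom.opensRange_of_isIso, top_inf_eq]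
    have e : (homOfLE (j.image_preimage_le U.unop)) = eqToHom h := Subsingleton.elim _ _
    rw [e]
    infer_instance
  exact isIso_of_reflects_iso _ (Scheme.Modules.toPresheaf X)

/-- Maps out of a quasi-coherent module on an affine scheme are maps of global sections. -/
theorem detW_top [IsAffine X] (F : X.Modules) [Coh.IsQCoh F] (N : X.Modules) : DetW F ⊤ N := by
  have hW : IsAffineOpen (⊤ : X.Opens) := isAffineOpen_top X
  haveI : IsIso hW.fromSpec := by
    haveI : Epi hW.fromSpec.base := (TopCat.epi_iff_surjective _).2 fun x => by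
      have hx : x ∈ Set.range hW.fromSpec := by rw [hW.range_fromSpec]; trivial
      exact hx
    exact IsOpenImmersion.isIso hW.fromSpec
  haveI : IsIso (F.restrict hW.fromSpec).fromTildeΓ :=
    (isIso_fromTildeΓ_iff_isLocalizing _).mpr (QCohLib.isLocalizing_of_locAt F hW (QCohLib.locAt F hW))
  haveI := isIso_unit_of_isIso hW.fromSpec N
  exact (detW_pushforward_fromSpec hW F _).of_iso
    (asIso ((Scheme.Modules.restrictAdjunction hW.fromSpec).unit.app N)).symm

theorem exists_hom_of_sections (F N : X.Modules) [Coh.IsQCoh F] {V : X.Opens} (hV : IsAffineOpen V)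
    (L : Γ(F, V) →+ Γ(N, V)) (hL : ∀ (a : Γ(X, V)) (m : Γ(F, V)), L (a • m) = a • L m) :
    ∃ c : (Scheme.Modules.restrictFunctor V.ι).obj F ⟶ (Scheme.Modules.restrictFunctor V.ι).obj N,
      ∀ (y : V) (m : Γ(F, V)),
        ((Scheme.Modules.restrictStalkNatIso V.ι y).inv.app F ≫
          (TopCat.Presheaf.stalkFunctor _ y).map c.mapPresheaf ≫
            (Scheme.Modules.restrictStalkNatIso V.ι y).hom.app N) (F.presheaf.germ V (V.ι y) y.2 m) =
          N.presheaf.germ V (V.ι y) y.2 (L m) := by
  haveI : IsAffine (V : Scheme.{u}) := hV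
  haveI : Coh.IsQCoh ((Scheme.Modules.restrictFunctor V.ι).obj F) := inferInstance
  have hT : V.ι ''ᵁ (⊤ : (V : Scheme.{u}).Opens) = V := V.ι_image_top
  let L' : Γ(F, V.ι ''ᵁ ⊤) → Γ(N, V.ι ''ᵁ ⊤) := fun m =>
    N.presheaf.map (homOfLE hT.le).op (L (F.presheaf.map (homOfLE hT.ge).op m))
  have hL' : ∀ (a : Γ(X, V.ι ''ᵁ ⊤)) (m : Γ(F, V.ι ''ᵁ ⊤)), L' (a • m) = a • L' m := fun a m => by
    show N.presheaf.map _ (L (F.presheaf.map _ (a • m))) = _
    rw [map_smul', hL, map_smul', res_res]
    refine congrArg (· • L' m) ?_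
    show X.presheaf.map (𝟙 (op (V.ι ''ᵁ ⊤))) a = a
    rw [X.presheaf.map_id]
    rfl
  obtain ⟨c, hc⟩ := (detW_top ((Scheme.Modules.restrictFunctor V.ι).obj F)
    ((Scheme.Modules.restrictFunctor V.ι).obj N)).2
    { toFun := fun m => L' m
      map_add' := fun m m' => by
        show N.presheaf.map _ (L (F.presheaf.map _ (m + m'))) = _
        exact ((congrArg _ ((congrArg L (map_add (F.presheaf.map (homOfLE hT.ge).op).hom m m')).trans
          (map_add L _ _))).trans (map_add (N.presheaf.map (homOfLE hT.le).op).hom _ _))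
      map_smul' := fun a m => hL' ((V.ι.appIso ⊤).inv a) m }
  refine ⟨c, fun y m => ?_⟩
  let M₀ : Γ(F, V.ι ''ᵁ ⊤) := F.presheaf.map (homOfLE hT.le).op m
  have h1 : ((Scheme.Modules.restrictStalkNatIso V.ι y).hom.app F)
      (((Scheme.Modules.restrictFunctor V.ι).obj F).presheaf.germ ⊤ y trivial M₀) =
      F.presheaf.germ V (V.ι y) y.2 m :=
    (ConcreteCategory.congr_hom (Scheme.Modules.germ_restrictStalkNatIso_hom_app V.ι y F (U := ⊤) trivial) M₀).trans
      (TopCat.Presheaf.germ_res_apply F.presheaf _ _ _ m)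
  rw [← h1]
  simp only [ConcreteCategory.comp_apply, Iso.hom_inv_id_app_apply]
  refine (congrArg ((Scheme.Modules.restrictStalkNatIso V.ι y).hom.app N)
    (TopCat.Presheaf.stalkFunctor_map_germ_apply (⊤ : (V : Scheme.{u}).Opens) y trivial c.mapPresheaf M₀)).trans ?_
  refine (ConcreteCategory.congr_hom (Scheme.Modules.germ_restrictStalkNatIso_hom_app V.ι y N (U := ⊤) trivial) _).trans ?_
  refine (congrArg (N.presheaf.germ (V.ι ''ᵁ ⊤) (V.ι y) ⟨y, trivial, rfl⟩)
    (show c.app ⊤ M₀ = L' M₀ from LinearMap.congr_fun hc M₀)).trans ?_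
  show N.presheaf.germ (V.ι ''ᵁ ⊤) (V.ι y) _
    (N.presheaf.map (homOfLE hT.le).op (L (F.presheaf.map (homOfLE hT.ge).op M₀))) = _
  rw [germ_res]
  show _ = N.presheaf.germ V (V.ι y) y.2 (L m)
  refine congrArg (fun z => N.presheaf.germ V (V.ι y) y.2 (L z)) ?_
  show F.presheaf.map (homOfLE hT.ge).op (F.presheaf.map (homOfLE hT.le).op m) = m
  rw [restr_trans, restr_self]

end Groth.Agent.StalkHomLib
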