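import Groth.Agent.StalkHomLib.Theta
import Groth.Agent.StalkHomLib.HomSect
import Groth.Agent.ModTensor.Sheaf
import Groth.Agent.DCohLib.ExtTensor

/-!
# The comparison of stalks of the internal Hom is bijective for coherent sources
-/

set_option autoImplicit false
set_option backward.isDefEq.respectTransparency false
set_option linter.style.haveILetI false
universe u

open CategoryTheory Limits Opposite TopologicalSpace AlgebraicGeometry MonoidalCategory
open Groth.Agent.PullbackMod Groth.Agent.DCohLib Groth.Agent.CohBase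
open scoped TensorProduct

noncomputable section

namespace Groth.Agent.StalkHomLib

variable {X : Scheme.{u}} (F : X.Modules) [ModSite.HasSheafHom (O := X.sheaf) F] (N : X.Modules)

theorem theta_germ {W : X.Opens} {y : X} (hy : y ∈ W) (h : Γ((hF F).obj N, W)) (s : Γ(F, W)) :
    theta F N y (((hF F).obj N).presheaf.germ W y hy h) (F.presheaf.germ W y hy s) =
      N.presheaf.germ W y hy ((ev F N).app W (pairS ((hF F).obj N) F h s)) := by
  rw [theta_apply]
  show stalkLin (ev F N) y (stalkTensorHom y _) = _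
  rw [stalkTensorHom_tmul]
  exact stalkLin_germ _ _ _ _

theorem exists_localGen [Coh.IsQCoh F] {W : X.Opens} (hW : IsAffineOpen W) {y : X} (hy : y ∈ W)
    (φ : F.presheaf.stalk y) :
    ∃ (u : X.presheaf.stalk y) (m : Γ(F, W)), IsUnit u ∧ u • φ = F.presheaf.germ W y hy m := by
  letI := Module.compHom (F.presheaf.stalk y) (X.presheaf.germ W y hy).hom
  haveI := FlatLocus.isLocalizedModule_germL F hW y hy
  obtain ⟨⟨m, a⟩, ha⟩ := IsLocalizedModule.surj (hW.primeIdealOf ⟨y, hy⟩).asIdeal.primeCompl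
    (FlatLocus.germL F W y hy) φ
  refine ⟨X.presheaf.germ W y hy a.1, m, ?_, ha⟩
  exact (X.mem_basicOpen a.1 y hy).1 ((primeCompl_primeIdealOf hW y hy a.1).1 a.2)

theorem theta_injective [Coh.IsQCoh F] (x : X) {W : X.Opens} (hW : IsAffineOpen W) (hx : x ∈ W)
    [Module.Finite Γ(X, W) Γ(F, W)] : Function.Injective (theta F N x) := by
  refine (injective_iff_map_eq_zero _).2 fun z hz => ?_
  obtain ⟨U, hxU, h, rfl⟩ := TopCat.Presheaf.exists_germ_eq ((hF F).obj N).presheaf z
  obtain ⟨g, hg, hxg⟩ := hW.exists_basicOpen_le (⟨x, hxU⟩ : U) hx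
  obtain ⟨S, hS⟩ := (Module.Finite.fg_top : (⊤ : Submodule Γ(X, W) Γ(F, W)).FG)
  let V := X.basicOpen g
  have hVW : V ≤ W := X.basicOpen_le g
  let h' : Γ((hF F).obj N, V) := ((hF F).obj N).presheaf.map (homOfLE hg).op h
  let t : Γ(F, W) → Γ(N, V) := fun s => (ev F N).app V (pairS _ F h' (F.presheaf.map (homOfLE hVW).op s))
  have ht : ∀ (y : X) (hy : y ∈ V) (s : Γ(F, W)), theta F N y (((hF F).obj N).presheaf.germ U y (hg hy) h)
      (F.presheaf.germ W y (hVW hy) s) = N.presheaf.germ V y hy (t s) := fun y hy s => by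
    rw [← theta_germ, germ_res, germ_res]
  obtain ⟨f, hxf, hle, hf⟩ := exists_basicOpen_vanish N hW x hx S hxg t fun s _ =>
    (ht x hxg s).symm.trans (LinearMap.congr_fun hz _)
  have key : ((hF F).obj N).presheaf.map (homOfLE (hle.trans hg)).op h = 0 := by
    refine sect_eq_zero F _ fun y hy => LinearMap.ext fun φ => ?_
    rw [germ_res, LinearMap.zero_apply]
    obtain ⟨u, m, hu, hum⟩ := exists_localGen F hW (hVW (hle hy)) φ
    have h0 : theta F N y (((hF F).obj N).presheaf.germ U y (hg (hle hy)) h)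
        (F.presheaf.germ W y (hVW (hle hy)) m) = 0 := by
      have hm : m ∈ Submodule.span Γ(X, W) (S : Set Γ(F, W)) := hS ▸ trivial
      clear hum
      induction hm using Submodule.span_induction with
      | mem s hs => rw [ht y (hle hy), ← germ_res N hle y hy, hf s hs, map_zero]
      | zero => rw [map_zero, map_zero]
      | add a b _ _ ha hb => rw [map_add, map_add, ha, hb, add_zero]
      | smul r a _ ha => rw [germ_smul', map_smul, ha, smul_zero]
    apply hu.smul_left_cancel.1
    rw [← map_smul, hum, h0, smul_zero]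
  rw [← germ_res _ (hle.trans hg) x hxf h, key, map_zero]

/-- The unit of the tensor product. -/
def unitMap : tmod (Coh.structureModule X) F ⟶ F :=
  ((PresheafOfModules.sheafificationAdjunction (𝟙 (ModSite.ringSh X.sheaf).obj)).homEquiv _ _).symm
    (show ModTensor.pre X.sheaf (Coh.structureModule X) ⊗ ModTensor.pre X.sheaf F ⟶ ModTensor.pre X.sheaf F from
      (λ_ (ModTensor.pre X.sheaf F)).hom)

theorem unitMap_stalk (x : X) (f : F.presheaf.stalk x) :
    stalkLin (unitMap F) x (stalkTensor x (Coh.structureModule X) F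
      ((Coh.structureModule X).presheaf.germ ⊤ x trivial (1 : Γ(X, ⊤)) ⊗ₜ f)) = f := by
  obtain ⟨U, hx, s, rfl⟩ := TopCat.Presheaf.exists_germ_eq F.presheaf f
  rw [← germ_res (Coh.structureModule X) (le_top : U ≤ ⊤) x hx]
  show stalkLin _ x (stalkTensorHom x _) = _
  rw [stalkTensorHom_tmul]
  refine (stalkLin_germ _ _ _ _).trans (congrArg _ ?_)
  let adj := PresheafOfModules.sheafificationAdjunction (𝟙 (ModSite.ringSh X.sheaf).obj)
  have h' : ModTensor.shUnit X.sheaf (ModTensor.pre X.sheaf (Coh.structureModule X) ⊗ ModTensor.pre X.sheaf F) ≫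
      (ModTensor.preFunctor X.sheaf).map (unitMap F) = (λ_ (ModTensor.pre X.sheaf F)).hom :=
    (adj.homEquiv_unit _ _ _).symm.trans (Equiv.apply_symm_apply _ _)
  refine (congr(($h').app (op U) (((Coh.structureModule X).presheaf.map (homOfLE (le_top : U ≤ ⊤)).op (1 : Γ(X, ⊤))) ⊗ₜ[Γ(X, U)] s))).trans ?_
  show (X.presheaf.map (homOfLE (le_top : U ≤ ⊤)).op (1 : Γ(X, ⊤))) • s = s
  rw [map_one, one_smul]

theorem theta_surjective [Coh.IsQCoh F] (x : X) {W : X.Opens} (hW : IsAffineOpen W) (hx : x ∈ W)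
    [Module.FinitePresentation Γ(X, W) Γ(F, W)] : Function.Surjective (theta F N x) := by
  intro l
  obtain ⟨f, hxf, l', hl', hgl⟩ := exists_lift N hW x hx Γ(F, W)
    (l.toAddMonoidHom.comp (F.presheaf.germ W x hx).hom)
    (fun a p => (congrArg l (germ_smul' F x hx a p)).trans (l.map_smul _ _))
  let V := X.basicOpen f
  have hV : IsAffineOpen V := hW.basicOpen f
  letI : Algebra Γ(X, W) Γ(X, V) := (X.presheaf.map (homOfLE (X.basicOpen_le f)).op).hom.toAlgebra
  haveI : IsLocalization.Away f Γ(X, V) := hW.isLocalization_basicOpen f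
  letI : Module Γ(X, W) Γ(N, V) := Module.compHom _ (algebraMap Γ(X, W) Γ(X, V))
  haveI : IsScalarTower Γ(X, W) Γ(X, V) Γ(N, V) := IsScalarTower.of_algebraMap_smul fun _ _ => rfl
  letI : Module Γ(X, W) Γ(F, V) := Module.compHom _ (algebraMap Γ(X, W) Γ(X, V))
  haveI : IsScalarTower Γ(X, W) Γ(X, V) Γ(F, V) := IsScalarTower.of_algebraMap_smul fun _ _ => rfl
  obtain ⟨r, hr, hrm⟩ : ∃ r : Γ(F, W) →ₗ[Γ(X, W)] Γ(F, V), IsLocalizedModule (Submonoid.powers f) r ∧
      ∀ m, r m = F.presheaf.map (homOfLE (X.basicOpen_le f)).op m := by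
    let r : Γ(F, W) →ₗ[Γ(X, W)] Γ(F, V) :=
      { toFun := F.presheaf.map (homOfLE (X.basicOpen_le f)).op
        map_add' := fun s t => map_add _ s t
        map_smul' := fun b s => F.val.map_smul (homOfLE (X.basicOpen_le f)).op b s }
    have hl := QCohLib.locAt F hW
    refine ⟨r, IsLocalizedModule.Away.mk_of_addCommGroup ?_ (fun t => ?_) (fun s hs => ?_), fun _ => rfl⟩
    · obtain ⟨u, hu⟩ := IsLocalization.map_units Γ(X, V) (⟨f, Submonoid.mem_powers f⟩ : Submonoid.powers f)
      refine (Module.End.isUnit_iff _).2 ?_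
      show Function.Bijective fun v : Γ(F, V) => algebraMap Γ(X, W) Γ(X, V) f • v
      rw [← hu]
      exact MulAction.bijective u
    · obtain ⟨n, s, hs⟩ := hl.extend f t
      exact ⟨n, s, hs.symm⟩
    · obtain ⟨n, hn⟩ := hl.kill f s hs
      exact ⟨n, (QCohLib.sc_le_rfl (f ^ n) s).symm.trans hn⟩
  have hu : ∀ s : Submonoid.powers f, IsUnit (algebraMap Γ(X, W) (Module.End Γ(X, W) Γ(N, V)) s) := by
    intro s
    obtain ⟨u, hu⟩ := IsLocalization.map_units Γ(X, V) s
    refine (Module.End.isUnit_iff _).2 ?_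
    show Function.Bijective fun v : Γ(N, V) => algebraMap Γ(X, W) Γ(X, V) s • v
    rw [← hu]
    exact MulAction.bijective u
  let L₀ : Γ(F, W) →ₗ[Γ(X, W)] Γ(N, V) := { toFun := l', map_add' := map_add l', map_smul' := hl' }
  let L₁ := IsLocalizedModule.lift (Submonoid.powers f) r L₀ hu
  let L := LinearMap.extendScalarsOfIsLocalization (Submonoid.powers f) Γ(X, V) L₁
  obtain ⟨c, hc⟩ := exists_hom_of_sections F N hV L.toAddMonoidHom (fun a m => L.map_smul a m)
  let jV := Scheme.Modules.restrictFunctor V.ι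
  let adjV := CxOX.extZeroAdj V.ι
  let P := (CxOX.extZero V.ι).obj (Coh.structureModule (V : Scheme.{u}))
  let q : P ⟶ Coh.structureModule X := (adjV.homEquiv _ _).symm (restrictUnit V.ι).inv
  let T := tmod P F
  let π : T ⟶ F := ((DCoh.tensorBi (X := X)).map q).app F ≫ unitMap F
  haveI hε : IsIso (adjV.counit.app T) := by
    refine (isIso_iff_stalk _).2 fun y => ?_
    by_cases hy : y ∈ V
    · haveI : IsIso (adjV.unit.app (jV.obj T)) := inferInstance
      have h1 : IsIso (jV.map (adjV.counit.app T)) := by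
        haveI : IsIso (adjV.unit.app (jV.obj T) ≫ jV.map (adjV.counit.app T)) := by
          rw [show adjV.unit.app (jV.obj T) ≫ jV.map (adjV.counit.app T) = 𝟙 _ from adjV.right_triangle_components T]
          infer_instance
        exact IsIso.of_isIso_comp_left (adjV.unit.app _) _
      have h2 : IsIso ((jV ⋙ Scheme.Modules.toPresheaf _ ⋙ TopCat.Presheaf.stalkFunctor AddCommGrpCat.{u} (⟨y, hy⟩ : V)).map
          (adjV.counit.app T)) :=
        @Functor.map_isIso _ _ _ _ _ _ (Scheme.Modules.toPresheaf (V : Scheme.{u}) ⋙ TopCat.Presheaf.stalkFunctor (X := (V : Scheme.{u}).toTopCat) AddCommGrpCat.{u} (⟨y, hy⟩ : V)) (jV.map (adjV.counit.app T)) h1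
      exact @ConcreteCategory.bijective_of_isIso _ _ _ _ _ _ _ _
        ((Scheme.Modules.toPresheaf _ ⋙ TopCat.Presheaf.stalkFunctor AddCommGrpCat.{u} y).map (adjV.counit.app T))
        ((NatIso.isIso_map_iff (Scheme.Modules.restrictStalkNatIso V.ι (⟨y, hy⟩ : V)) _).1 h2)
    · have hA := subsingleton_stalk_extZero V (jV.obj T) y hy
      have hB := subsingleton_stalk_tmod F y (subsingleton_stalk_extZero V (Coh.structureModule _) y hy)
      exact ⟨fun a b _ => hA.elim a b, fun b => ⟨0, hB.elim _ _⟩⟩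
  let g : jV.obj T ⟶ jV.obj N := jV.map π ≫ c
  let b : T ⟶ N := inv (adjV.counit.app T) ≫ (adjV.homEquiv _ _).symm g
  have hb : jV.map b = g := by
    have e1 : adjV.unit.app (jV.obj T) ≫ jV.map (adjV.counit.app T) = 𝟙 _ := adjV.right_triangle_components T
    have e2 : adjV.unit.app (jV.obj T) ≫ jV.map ((adjV.homEquiv _ _).symm g) = g :=
      ((adjV.homEquiv_unit _ _ _).symm.trans (Equiv.apply_symm_apply _ _))
    have e3 : jV.map (adjV.counit.app T) ≫ jV.map b = jV.map ((adjV.homEquiv _ _).symm g) := by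
      rw [← Functor.map_comp, IsIso.hom_inv_id_assoc]
    calc jV.map b = (adjV.unit.app (jV.obj T) ≫ jV.map (adjV.counit.app T)) ≫ jV.map b := by
          rw [e1, Category.id_comp]
      _ = g := by rw [Category.assoc, e3, e2]
  let a : P ⟶ (hF F).obj N := (ModSite.sheafHomAdj (O := X.sheaf) F).homEquiv P N b
  let x' : V := ⟨x, hxf⟩
  obtain ⟨w, hw⟩ : ∃ w, stalkLin q x w =
      (Coh.structureModule X).presheaf.germ ⊤ x trivial (1 : Γ(X, ⊤)) := by
    have h1 : IsIso (jV.map q) := by
      have e : adjV.unit.app _ ≫ jV.map q = (restrictUnit V.ι).inv :=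
        (adjV.homEquiv_unit _ _ _).symm.trans (Equiv.apply_symm_apply _ _)
      haveI : IsIso (adjV.unit.app (Coh.structureModule (V : Scheme.{u})) ≫ jV.map q) := by
        rw [e]; infer_instance
      exact IsIso.of_isIso_comp_left (adjV.unit.app _) _
    have h2 : IsIso ((jV ⋙ Scheme.Modules.toPresheaf _ ⋙ TopCat.Presheaf.stalkFunctor AddCommGrpCat.{u} x').map q) :=
      @Functor.map_isIso _ _ _ _ _ _ (Scheme.Modules.toPresheaf (V : Scheme.{u}) ⋙ TopCat.Presheaf.stalkFunctor (X := (V : Scheme.{u}).toTopCat) AddCommGrpCat.{u} x') (jV.map q) h1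
    exact (@ConcreteCategory.bijective_of_isIso _ _ _ _ _ _ _ _
      ((Scheme.Modules.toPresheaf _ ⋙ TopCat.Presheaf.stalkFunctor AddCommGrpCat.{u} x).map q)
      ((NatIso.isIso_map_iff (Scheme.Modules.restrictStalkNatIso V.ι x') q).1 h2)).2 _
  refine ⟨stalkLin a x w, LinearMap.ext fun φ₀ => ?_⟩
  obtain ⟨u, m, hum', hum⟩ := exists_localGen F hW hx φ₀
  apply hum'.smul_left_cancel.1
  rw [← map_smul, ← map_smul, hum]
  let φ := F.presheaf.germ W x hx m
  show theta F N x (stalkLin a x w) φ = l φ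
  rw [theta_transpose]
  rw [show ((ModSite.sheafHomAdj (O := X.sheaf) F).homEquiv P N).symm a = b from Equiv.symm_apply_apply _ _]
  let ζ : T.presheaf.stalk x := stalkTensor x P F (w ⊗ₜ φ)
  have hπ : stalkLin π x ζ = φ := by
    rw [stalkLin_comp, LinearMap.comp_apply, stalkTensor_natural_left, LinearMap.rTensor_tmul, hw]
    exact unitMap_stalk F x φ
  let eT := Scheme.Modules.restrictStalkNatIso V.ι x'
  let ζ' := eT.inv.app T ζ
  have nat : ∀ {A B : X.Modules} (u : A ⟶ B) (z : A.presheaf.stalk x),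
      eT.hom.app B (stalkLin (jV.map u) x' (eT.inv.app A z)) = stalkLin u x z := fun {A B} u z =>
    (ConcreteCategory.congr_hom (eT.hom.naturality u) (eT.inv.app A z)).trans
      (congrArg (stalkLin u x) (Iso.inv_hom_id_app_apply eT A z))
  refine (nat b ζ).symm.trans ?_
  rw [hb, show stalkLin g x' ζ' = stalkLin c x' (stalkLin (jV.map π) x' ζ') by
    rw [← LinearMap.comp_apply, ← stalkLin_comp]]
  rw [show stalkLin (jV.map π) x' ζ' = eT.inv.app F φ from by
    rw [← hπ, ← nat π ζ]; exact (Iso.hom_inv_id_app_apply eT F _).symm]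
  show (eT.inv.app F ≫ (TopCat.Presheaf.stalkFunctor AddCommGrpCat.{u} x').map c.mapPresheaf ≫ eT.hom.app N)
    (F.presheaf.germ W x hx m) = l (F.presheaf.germ W x hx m)
  rw [← germ_res F (X.basicOpen_le f) x hxf m]
  refine (hc x' _).trans ?_
  rw [← hrm]
  refine (congrArg (N.presheaf.germ V x hxf) (IsLocalizedModule.lift_apply (Submonoid.powers f) r L₀ hu m)).trans ?_
  rw [show L₀ m = l' m from rfl, hgl, hrm, germ_res]
  rfl

end Groth.Agent.StalkHomLib
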