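import Groth.Agent.StalkHomLib.ThetaBij
import Groth.Agent.QCohLib.Coherent
import Groth.Agent.DCohLib.DualBase

/-!
# Sections of the internal Hom on affine opens
-/

set_option autoImplicit false
set_option backward.isDefEq.respectTransparency false
set_option linter.style.haveILetI false
universe u

open CategoryTheory Limits Opposite TopologicalSpace AlgebraicGeometry MonoidalCategory
open Groth.Agent.PullbackMod Groth.Agent.DCohLib Groth.Agent.CohBase
open scoped TensorProduct

noncomputable section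

namespace Groth.Agent.StalkHomLib

variable {X : Scheme.{u}} (F : X.Modules) [ModSite.HasSheafHom (O := X.sheaf) F] (N : X.Modules)

/-- The value of a section of the internal Hom on a section. -/
def evS {V : X.Opens} (h : Γ((hF F).obj N, V)) (s : Γ(F, V)) : Γ(N, V) :=
  (ev F N).app V (pairS ((hF F).obj N) F h s)

theorem evS_res {V V' : X.Opens} (hle : V' ≤ V) (h : Γ((hF F).obj N, V)) (s : Γ(F, V)) :
    N.presheaf.map (homOfLE hle).op (evS F N h s) =
      evS F N (((hF F).obj N).presheaf.map (homOfLE hle).op h) (F.presheaf.map (homOfLE hle).op s) :=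
  (app_natural (ev F N) hle _).symm.trans (congrArg _ (res_pairS hle h s))

theorem evS_smul_left {V : X.Opens} (r : Γ(X, V)) (h : Γ((hF F).obj N, V)) (s : Γ(F, V)) :
    evS F N (r • h) s = r • evS F N h s :=
  (congrArg _ (pairS_smul_left r h s)).trans (Scheme.Modules.Hom.app_smul (ev F N) r _)

theorem evS_smul_right {V : X.Opens} (r : Γ(X, V)) (h : Γ((hF F).obj N, V)) (s : Γ(F, V)) :
    evS F N h (r • s) = r • evS F N h s :=
  (congrArg _ (pairS_smul_right r h s)).trans (Scheme.Modules.Hom.app_smul (ev F N) r _)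

theorem evS_add_left {V : X.Opens} (h h' : Γ((hF F).obj N, V)) (s : Γ(F, V)) :
    evS F N (h + h') s = evS F N h s + evS F N h' s :=
  (congrArg _ (pairS_add_left h h' s)).trans (map_add _ _ _)

theorem evS_add_right {V : X.Opens} (h : Γ((hF F).obj N, V)) (s s' : Γ(F, V)) :
    evS F N h (s + s') = evS F N h s + evS F N h s' :=
  (congrArg _ (pairS_add_right h s s')).trans (map_add _ _ _)

/-- Evaluation as a linear map. -/
def psi (V : X.Opens) : Γ((hF F).obj N, V) →ₗ[Γ(X, V)] Γ(F, V) →ₗ[Γ(X, V)] Γ(N, V) :=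
  LinearMap.mk₂ Γ(X, V) (evS F N) (evS_add_left F N) (evS_smul_left F N) (evS_add_right F N)
    (fun r h s => evS_smul_right F N r h s)

theorem psi_injective [Coh.IsQCoh F] {V : X.Opens} (hV : IsAffineOpen V) : Function.Injective (psi F N V) := by
  refine (injective_iff_map_eq_zero _).2 fun h hh => sect_eq_zero F h fun y hy => LinearMap.ext fun φ => ?_
  obtain ⟨u, m, hu, hum⟩ := exists_localGen F hV hy φ
  apply hu.smul_left_cancel.1
  rw [← map_smul, hum, theta_germ, LinearMap.zero_apply, smul_zero,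
    show (ev F N).app V (pairS _ F h m) = 0 from LinearMap.congr_fun hh m, map_zero]

theorem psi_surjective [Coh.IsQCoh F] {V : X.Opens} (hV : IsAffineOpen V) : Function.Surjective (psi F N V) := by
  intro L
  obtain ⟨c, hc⟩ := exists_hom_of_sections F N hV L.toAddMonoidHom (fun a m => L.map_smul a m)
  let jV := Scheme.Modules.restrictFunctor V.ι
  let adjV := CxOX.extZeroAdj V.ι
  let P := (CxOX.extZero V.ι).obj (Coh.structureModule (V : Scheme.{u}))
  let q : P ⟶ Coh.structureModule X := (adjV.homEquiv _ _).symm (restrictUnit V.ι).inv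
  let T := tmod P F
  let π : T ⟶ F := ((DCoh.tensorBi (X := X)).map q).app F ≫ unitMap F
  haveI hε : IsIso (adjV.counit.app T) := by
    refine (isIso_iff_stalk _).2 fun y => ?_
    by_cases hy : y ∈ V
    · haveI : IsIso (adjV.unit.app (jV.obj T)) := inferInstance
      have h1 : IsIso (jV.map (adjV.counit.app T)) := by
        haveI : IsIso (adjV.unit.app (jV.obj T) ≫ jV.map (adjV.counit.app T)) := by
          rw [show adjV.unit.app (jV.obj T) ≫ jV.map (adjV.counit.app T) = 𝟙 _ from adjV.right_triangle_components T]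
          infer_instance
        exact IsIso.of_isIso_comp_left (adjV.unit.app _) _
      have h2 : IsIso ((jV ⋙ Scheme.Modules.toPresheaf _ ⋙ TopCat.Presheaf.stalkFunctor AddCommGrpCat.{u} (⟨y, hy⟩ : V)).map
          (adjV.counit.app T)) :=
        @Functor.map_isIso _ _ _ _ _ _ (Scheme.Modules.toPresheaf (V : Scheme.{u}) ⋙ TopCat.Presheaf.stalkFunctor (X := (V : Scheme.{u}).toTopCat) AddCommGrpCat.{u} (⟨y, hy⟩ : V)) (jV.map (adjV.counit.app T)) h1
      exact @ConcreteCategory.bijective_of_isIso _ _ _ _ _ _ _ _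
        ((Scheme.Modules.toPresheaf _ ⋙ TopCat.Presheaf.stalkFunctor AddCommGrpCat.{u} y).map (adjV.counit.app T))
        ((NatIso.isIso_map_iff (Scheme.Modules.restrictStalkNatIso V.ι (⟨y, hy⟩ : V)) _).1 h2)
    · have hA := subsingleton_stalk_extZero V (jV.obj T) y hy
      have hB := subsingleton_stalk_tmod F y (subsingleton_stalk_extZero V (Coh.structureModule _) y hy)
      exact ⟨fun a b _ => hA.elim a b, fun b => ⟨0, hB.elim _ _⟩⟩
  let g : jV.obj T ⟶ jV.obj N := jV.map π ≫ c
  let b : T ⟶ N := inv (adjV.counit.app T) ≫ (adjV.homEquiv _ _).symm g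
  have hb : jV.map b = g := by
    have e1 : adjV.unit.app (jV.obj T) ≫ jV.map (adjV.counit.app T) = 𝟙 _ := adjV.right_triangle_components T
    have e2 : adjV.unit.app (jV.obj T) ≫ jV.map ((adjV.homEquiv _ _).symm g) = g :=
      ((adjV.homEquiv_unit _ _ _).symm.trans (Equiv.apply_symm_apply _ _))
    have e3 : jV.map (adjV.counit.app T) ≫ jV.map b = jV.map ((adjV.homEquiv _ _).symm g) := by
      rw [← Functor.map_comp, IsIso.hom_inv_id_assoc]
    calc jV.map b = (adjV.unit.app (jV.obj T) ≫ jV.map (adjV.counit.app T)) ≫ jV.map b := by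
          rw [e1, Category.id_comp]
      _ = g := by rw [Category.assoc, e3, e2]
  let a : P ⟶ (hF F).obj N := (ModSite.sheafHomAdj (O := X.sheaf) F).homEquiv P N b
  let e₀ : Γ(P, V.ι ''ᵁ ⊤) :=
    (adjV.unit.app (Coh.structureModule (V : Scheme.{u}))).app ⊤ (1 : Γ(↑V, ⊤))
  let e₁ : Γ(P, V) := P.presheaf.map (homOfLE V.ι_image_top.ge).op e₀
  have hq : q.app V e₁ = (Coh.structureModule X).presheaf.map (homOfLE (le_top : V ≤ ⊤)).op (1 : Γ(X, ⊤)) := by
    have h1 : adjV.unit.app _ ≫ jV.map q = (restrictUnit V.ι).inv :=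
      (adjV.homEquiv_unit _ _ _).symm.trans (Equiv.apply_symm_apply _ _)
    have h2 : q.app (V.ι ''ᵁ ⊤) e₀ = (1 : Γ(X, V.ι ''ᵁ ⊤)) :=
      (congrArg (fun k : Coh.structureModule (V : Scheme.{u}) ⟶ jV.obj (Coh.structureModule X) =>
        k.app ⊤ (1 : Γ(↑V, ⊤))) h1).trans restrictUnit_inv_app_one
    refine (app_natural q V.ι_image_top.ge e₀).trans ((congrArg _ h2).trans ?_)
    exact (map_one (X.presheaf.map (homOfLE V.ι_image_top.ge).op).hom).trans
      (map_one (X.presheaf.map (homOfLE (le_top : V ≤ ⊤)).op).hom).symm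
  refine ⟨a.app V e₁, LinearMap.ext fun s => ?_⟩
  show evS F N (a.app V e₁) s = L s
  refine TopCat.Presheaf.section_ext ⟨N.presheaf, N.isSheaf⟩ V _ _ fun y hy => ?_
  let y' : V := ⟨y, hy⟩
  refine (theta_germ F N hy _ _).symm.trans ?_
  rw [← stalkLin_germ a y hy e₁, theta_transpose]
  rw [show ((ModSite.sheafHomAdj (O := X.sheaf) F).homEquiv P N).symm a = b from Equiv.symm_apply_apply _ _]
  let w := P.presheaf.germ V y hy e₁
  let φ := F.presheaf.germ V y hy s
  let ζ : T.presheaf.stalk y := stalkTensor y P F (w ⊗ₜ φ)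
  have hw : stalkLin q y w = (Coh.structureModule X).presheaf.germ ⊤ y trivial (1 : Γ(X, ⊤)) := by
    show stalkLin q y (P.presheaf.germ V y hy e₁) = _
    rw [stalkLin_germ, hq, germ_res]
  have hπ : stalkLin π y ζ = φ := by
    rw [stalkLin_comp, LinearMap.comp_apply, stalkTensor_natural_left, LinearMap.rTensor_tmul, hw]
    exact unitMap_stalk F y φ
  let eT := Scheme.Modules.restrictStalkNatIso V.ι y'
  let ζ' := eT.inv.app T ζ
  have nat : ∀ {A B : X.Modules} (u : A ⟶ B) (z : A.presheaf.stalk y),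
      eT.hom.app B (stalkLin (jV.map u) y' (eT.inv.app A z)) = stalkLin u y z := fun {A B} u z =>
    (ConcreteCategory.congr_hom (eT.hom.naturality u) (eT.inv.app A z)).trans
      (congrArg (stalkLin u y) (Iso.inv_hom_id_app_apply eT A z))
  refine (nat b ζ).symm.trans ?_
  rw [hb, show stalkLin g y' ζ' = stalkLin c y' (stalkLin (jV.map π) y' ζ') by
    rw [← LinearMap.comp_apply, ← stalkLin_comp]]
  rw [show stalkLin (jV.map π) y' ζ' = eT.inv.app F φ from by
    rw [← hπ, ← nat π ζ]; exact (Iso.hom_inv_id_app_apply eT F _).symm]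
  exact hc y' s

variable [IsLocallyNoetherian X]

/-- The internal Hom of a coherent module into a quasi-coherent module is quasi-coherent. -/
theorem isQCoh_hF' [Coh.IsQCoh N] (hFc : Coh.IsCoh F) : Coh.IsQCoh ((hF F).obj N) := by
  haveI := hFc.1
  refine (QCohLib.isQCoh_iff _).2 fun W hW => ⟨fun f t => ?_, fun f h hh => ?_⟩
  · haveI : IsNoetherianRing Γ(X, W) := IsLocallyNoetherian.component_noetherian ⟨W, hW⟩
    haveI := QCohLib.finite_sections_of_isCoh hFc hW
    haveI : Module.FinitePresentation Γ(X, W) Γ(F, W) := Module.finitePresentation_of_finite _ _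
    let V := X.basicOpen f
    have hV : IsAffineOpen V := hW.basicOpen f
    have hVW : V ≤ W := X.basicOpen_le f
    letI := Module.compHom Γ(N, V) (X.presheaf.map (homOfLE hVW).op).hom
    let r : Γ(N, W) →ₗ[Γ(X, W)] Γ(N, V) :=
      { toFun := N.presheaf.map (homOfLE hVW).op
        map_add' := fun s s' => map_add _ s s'
        map_smul' := fun a s => map_smul' N hVW a s }
    have hl := QCohLib.locAt N hW
    haveI : IsLocalizedModule (Submonoid.powers f) r := by
      refine IsLocalizedModule.Away.mk_of_addCommGroup ?_ (fun v => ?_) (fun s hs => ?_)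
      · have hu' : IsUnit (X.presheaf.map (homOfLE hVW).op f) := X.toRingedSpace.isUnit_res_basicOpen f
        obtain ⟨u, hu⟩ := hu'
        refine (Module.End.isUnit_iff _).mpr ?_
        show Function.Bijective fun v : Γ(N, V) => X.presheaf.map (homOfLE hVW).op f • v
        rw [← hu]
        exact MulAction.bijective u
      · obtain ⟨n, s, hs⟩ := hl.extend f v
        exact ⟨n, s, hs.symm⟩
      · obtain ⟨n, hn⟩ := hl.kill f s hs
        exact ⟨n, (QCohLib.sc_le_rfl (f ^ n) s).symm.trans hn⟩
    let L : Γ(F, W) →ₗ[Γ(X, W)] Γ(N, V) :=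
      { toFun := fun s => evS F N t (F.presheaf.map (homOfLE hVW).op s)
        map_add' := fun s s' => (congrArg _ (map_add (F.presheaf.map (homOfLE hVW).op).hom s s')).trans
          (evS_add_right F N _ _ _)
        map_smul' := fun a s => (congrArg _ (map_smul' F hVW a s)).trans (evS_smul_right F N _ _ _) }
    obtain ⟨L', ⟨_, n, rfl⟩, hL'⟩ :=
      Module.FinitePresentation.exists_lift_of_isLocalizedModule (Submonoid.powers f) r L
    obtain ⟨h, hh⟩ := psi_surjective F N hW L'
    refine ⟨n, h, psi_injective F N hV (LinearMap.ext fun m => ?_)⟩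
    refine TopCat.Presheaf.section_ext ⟨N.presheaf, N.isSheaf⟩ V _ _ fun y hy => ?_
    obtain ⟨u, m', hu, hum⟩ := exists_localGen F hW (hVW hy) (F.presheaf.germ V y hy m)
    show N.presheaf.germ V y hy (evS F N _ m) = N.presheaf.germ V y hy (evS F N _ m)
    refine (theta_germ F N hy _ m).symm.trans (Eq.trans ?_ (theta_germ F N hy _ m))
    apply hu.smul_left_cancel.1
    rw [← (theta F N y _).map_smul, ← (theta F N y _).map_smul, hum, ← germ_res F hVW y hy m', theta_germ, theta_germ]
    refine congrArg _ ?_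
    show evS F N _ _ = evS F N _ _
    rw [← evS_res, show evS F N h m' = L' m' from LinearMap.congr_fun hh m']
    refine (LinearMap.congr_fun hL' m').trans ?_
    show X.presheaf.map (homOfLE hVW).op (f ^ n) • evS F N t (F.presheaf.map (homOfLE hVW).op m') = _
    exact (evS_smul_left F N _ _ _).symm
  · haveI := QCohLib.finite_sections_of_isCoh hFc hW
    obtain ⟨S, hS⟩ := (Module.Finite.fg_top : (⊤ : Submodule Γ(X, W) Γ(F, W)).FG)
    have hl := QCohLib.locAt N hW
    have h1 : ∀ s : Γ(F, W), ∃ n : ℕ, f ^ n • evS F N h s = 0 := fun s => by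
      obtain ⟨n, hn⟩ := hl.kill f (evS F N h s) (by
        rw [evS_res, hh]
        exact LinearMap.congr_fun (map_zero (psi F N (X.basicOpen f))) _)
      exact ⟨n, (QCohLib.sc_le_rfl (f ^ n) _).symm.trans hn⟩
    choose g hg using h1
    refine ⟨S.sup g, (QCohLib.sc_le_rfl _ _).trans (psi_injective F N hW ?_)⟩
    rw [map_smul, map_zero]
    refine LinearMap.ext_on hS fun s hs => ?_
    obtain ⟨d, hd⟩ := Nat.exists_eq_add_of_le (Finset.le_sup (f := g) hs)
    show f ^ S.sup g • evS F N h s = 0
    rw [hd, add_comm, pow_add, mul_smul, hg, smul_zero]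

/-- The internal Hom of coherent modules is coherent. -/
theorem isCoh_hF (hFc : Coh.IsCoh F) (hN : Coh.IsCoh N) : Coh.IsCoh ((hF F).obj N) := by
  haveI := hFc.1
  haveI := hN.1
  haveI := isQCoh_hF' F N hFc
  refine QCohLib.isCoh_of_finite _ fun W hW => ?_
  haveI : IsNoetherianRing Γ(X, W) := IsLocallyNoetherian.component_noetherian ⟨W, hW⟩
  haveI := QCohLib.finite_sections_of_isCoh hFc hW
  haveI := QCohLib.finite_sections_of_isCoh hN hW
  exact Module.Finite.of_injective (psi F N W) (psi_injective F N hW)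

end Groth.Agent.StalkHomLib
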