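import Groth.Agent.StalkHomLib.Lift
import Groth.Agent.LocZLib.GammaQCoh
import Groth.Agent.TildeD.Exact

/-!
# Sections of injective modules on affine opens
-/

set_option autoImplicit false
universe u

open CategoryTheory Limits Opposite TopologicalSpace AlgebraicGeometry
open Groth.Agent.CohBase

namespace Groth.Agent.StalkHomLib

variable {X : Scheme.{u}}

theorem injective_sections (I : X.Modules) (hI : Injective I) {V : X.Opens} (hV : IsAffineOpen V) :
    Module.Injective Γ(X, V) Γ(I, V) := by
  haveI := LocZLib.GammaQCoh.injective_restrict hV.fromSpec I hI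
  haveI : (tilde.functor (R := Γ(X, V))).PreservesMonomorphisms := ⟨fun f => TildeD.mono_tilde_map f⟩
  haveI h := Injective.injective_of_adjoint (tilde.adjunction (R := Γ(X, V)))
    ((Scheme.Modules.restrictFunctor hV.fromSpec).obj I)
  haveI : Injective (ModuleCat.of Γ(X, V) Γ(I, V)) :=
    Injective.of_iso
      (show (moduleSpecΓFunctor (R := Γ(X, V))).obj ((Scheme.Modules.restrictFunctor hV.fromSpec).obj I) ≅
        ModuleCat.of Γ(X, V) Γ(I, V) from
        LinearEquiv.toModuleIso
          (X₁ := ((moduleSpecΓFunctor (R := Γ(X, V))).obj ((Scheme.Modules.restrictFunctor hV.fromSpec).obj I) : ModuleCat Γ(X, V)))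
          (QCohLib.topEquiv I hV)) h
  exact Module.injective_module_of_injective_object Γ(X, V) Γ(I, V)

end Groth.Agent.StalkHomLib
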