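import Mathlib
import Groth.Agent.SpSeqLib.ExtDerived

/-!
# The cohomology of the linear `Hom(G, R)` is the module `Ext(G, X)`
-/

set_option autoImplicit false
set_option linter.style.haveILetI false
universe w v u

open CategoryTheory Limits Abelian Opposite

noncomputable section

namespace Groth.Agent.StalkHomLib

variable (k : Type w) [CommRing k] {A : Type u} [Category.{v} A] [Abelian A] [Linear k A] [HasExt.{v} A] (G : A)
  {X : A} (R : InjectiveResolution X)

/-- `Hom(G, -)` applied to an injective resolution, as modules. -/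
abbrev linCx : CochainComplex (ModuleCat.{v} k) ℕ :=
  (((linearCoyoneda k A).obj (op G)).mapHomologicalComplex _).obj R.cocomplex

/-- The morphism underlying a cocycle. -/
abbrev linCycle (n : ℕ) (z : (linCx k G R).cycles n) : G ⟶ R.cocomplex.X n :=
  (linCx k G R).iCycles n z

theorem linCycle_d (n m : ℕ) (z : (linCx k G R).cycles n) :
    linCycle k G R n z ≫ R.cocomplex.d n m = 0 :=
  (ConcreteCategory.congr_hom ((linCx k G R).iCycles_d n m) z)

/-- The class of a cocycle. -/
def linClass (n : ℕ) : (linCx k G R).cycles n ⟶ ModuleCat.of k (Ext G X n) :=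
  ModuleCat.ofHom
    { toFun := fun z => R.extMk (linCycle k G R n z) (n + 1) rfl (linCycle_d k G R n (n + 1) z)
      map_add' := fun a b => by
        refine Eq.trans ?_ (R.add_extMk _ _ _ _ _ _).symm
        congr 1
        exact map_add ((linCx k G R).iCycles n).hom a b
      map_smul' := fun r z => by
        have h : ∀ (f : G ⟶ R.cocomplex.X n) (hf : f ≫ R.cocomplex.d n (n + 1) = 0),
            (r • R.extMk f (n + 1) rfl hf) =
              R.extMk (r • f) (n + 1) rfl (by rw [Linear.smul_comp, hf, smul_zero]) := by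
          intro f hf
          conv_lhs => rw [← Ext.mk₀_id_comp (R.extMk f (n + 1) rfl hf), ← Ext.smul_comp, ← Ext.mk₀_smul]
          rw [InjectiveResolution.mk₀_comp_extMk]
          congr 1
          rw [Linear.smul_comp, Category.id_comp]
        refine Eq.trans ?_ (h _ (linCycle_d k G R n (n + 1) z)).symm
        congr 1
        exact map_smul ((linCx k G R).iCycles n).hom r z }

theorem linClass_surjective (n : ℕ) (x : Ext G X n) : ∃ z, linClass k G R n z = x := by
  obtain ⟨f, hf, rfl⟩ := R.extMk_surjective x (n + 1) rfl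
  obtain ⟨z, hz⟩ := (ShortComplex.moduleCat_exact_iff _).1 (ShortComplex.exact_of_f_is_kernel
    (ShortComplex.mk _ _ ((linCx k G R).iCycles_d n (n + 1)))
    ((linCx k G R).cyclesIsKernel n (n + 1) (CochainComplex.next ℕ n))) f hf
  refine ⟨z, ?_⟩
  show R.extMk (linCycle k G R n z) (n + 1) rfl (linCycle_d k G R n (n + 1) z) = _
  congr 1

theorem linClass_eq_zero_iff (n : ℕ) (z : (linCx k G R).cycles n) :
    linClass k G R n z = 0 ↔ ∃ s, (linCx k G R).toCycles ((ComplexShape.up ℕ).prev n) n s = z := by
  have hinj : Function.Injective (linCycle k G R n) :=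
    (ModuleCat.mono_iff_injective ((linCx k G R).iCycles n)).1 inferInstance
  have hd : ∀ s, linCycle k G R n ((linCx k G R).toCycles ((ComplexShape.up ℕ).prev n) n s) =
      (show G ⟶ R.cocomplex.X _ from s) ≫ R.cocomplex.d ((ComplexShape.up ℕ).prev n) n := fun s =>
    ConcreteCategory.congr_hom ((linCx k G R).toCycles_i ((ComplexShape.up ℕ).prev n) n) s
  constructor
  · intro h
    rcases n with _ | p
    · refine ⟨0, hinj ?_⟩
      rw [map_zero]
      exact ((map_zero ((linCx k G R).iCycles 0).hom)).trans
        (SpSeqLib.eq_zero_of_extMk_zero G R _ (linCycle_d k G R 0 1 z) h).symm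
    · obtain ⟨g, hg⟩ := (R.extMk_eq_zero_iff _ (p + 1 + 1) rfl
        (linCycle_d k G R (p + 1) (p + 1 + 1) z) p rfl).1 h
      rw [CochainComplex.prev_nat_succ] at hd ⊢
      exact ⟨g, hinj ((hd g).trans hg)⟩
  · rintro ⟨s, rfl⟩
    show R.extMk _ (n + 1) rfl (linCycle_d k G R n (n + 1) _) = 0
    rcases n with _ | p
    · refine Eq.trans ?_ (R.extMk_zero (X := G) 1 rfl)
      congr 1
      rw [hd, R.cocomplex.shape _ _ (by simp), comp_zero]
    · refine (R.extMk_eq_zero_iff _ (p + 1 + 1) rfl (linCycle_d k G R (p + 1) (p + 1 + 1) _) p rfl).2 ?_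
      revert s
      rw [CochainComplex.prev_nat_succ] at hd ⊢
      exact fun s => ⟨s, (hd s).symm⟩

/-- The cohomology of the linear `Hom(G, R)` is `Ext(G, X)`, linearly. -/
theorem nonempty_homology_linCx_iso (n : ℕ) :
    Nonempty ((linCx k G R).homology n ≅ ModuleCat.of k (Ext G X n)) := by
  have hw : (linCx k G R).toCycles ((ComplexShape.up ℕ).prev n) n ≫ linClass k G R n = 0 := by
    ext s
    exact (linClass_eq_zero_iff k G R n _).2 ⟨s, rfl⟩
  haveI : Epi (linClass k G R n) :=
    (ModuleCat.epi_iff_surjective _).2 (linClass_surjective k G R n)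
  have hex : (ShortComplex.mk _ _ hw).Exact :=
    (ShortComplex.moduleCat_exact_iff _).2 fun z hz => (linClass_eq_zero_iff k G R n z).1 hz
  exact ⟨IsColimit.coconePointUniqueUpToIso ((linCx k G R).homologyIsCokernel _ n rfl) hex.gIsCokernel⟩

end Groth.Agent.StalkHomLib
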