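import Groth.Agent.StalkHomLib.ThetaBij
import Groth.Agent.StalkHomLib.ExtLinear
import Groth.Agent.QCohLib.Coherent
import Groth.Agent.DCohLib.StalkKFlat
import Groth.Agent.S11155

/-!
# The stalk of the Ext sheaf
-/

set_option autoImplicit false
set_option backward.isDefEq.respectTransparency false
set_option linter.style.haveILetI false
universe u

open CategoryTheory Limits Opposite TopologicalSpace AlgebraicGeometry Abelian
open Groth.Agent.PullbackMod Groth.Agent.DCohLib

noncomputable section

namespace Groth.Agent.StalkHomLib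

variable {X : Scheme.{u}} (F : X.Modules) (x : X) {S : CommRingCat.{u}} (e : S ≃+* X.presheaf.stalk x)

/-- The stalk as a module over a ring isomorphic to the local ring. -/
abbrev stkR : X.Modules ⥤ ModuleCat.{u} S := stkF x ⋙ ModuleCat.restrictScalars e.toRingHom

instance preservesFiniteLimits_stkR : PreservesFiniteLimits (stkR x e) := by
  haveI : (ModuleCat.restrictScalars.{u} e.toRingHom).IsEquivalence :=
    (ModuleCat.restrictScalarsEquivalenceOfRingEquiv e).isEquivalence_functor
  exact comp_preservesFiniteLimits _ _

instance preservesFiniteColimits_stkR : PreservesFiniteColimits (stkR x e) := by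
  haveI : (ModuleCat.restrictScalars.{u} e.toRingHom).IsEquivalence :=
    (ModuleCat.restrictScalarsEquivalenceOfRingEquiv e).isEquivalence_functor
  exact comp_preservesFiniteColimits _ _

theorem injective_stkR [IsLocallyNoetherian X] (I : X.Modules) (hI : Injective I) :
    Injective ((stkR x e).obj I) := by
  haveI : Module.Injective (X.presheaf.stalk x) (I.presheaf.stalk x) := S11155.result I hI x
  haveI : Injective ((stkF x).obj I) :=
    Module.injective_object_of_injective_module (X.presheaf.stalk x) (I.presheaf.stalk x)
  exact Injective.injective_of_adjoint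
    (ModuleCat.restrictScalarsEquivalenceOfRingEquiv e).symm.toAdjunction ((stkF x).obj I)

variable [ModSite.HasSheafHom (O := X.sheaf) F]

/-- A map over the local ring as a map over `S`. -/
def resHom {N : X.Modules} (u : F.presheaf.stalk x →ₗ[X.presheaf.stalk x] N.presheaf.stalk x) :
    (stkR x e).obj F ⟶ (stkR x e).obj N :=
  (ModuleCat.restrictScalars e.toRingHom).map (ModuleCat.ofHom u : (stkF x).obj F ⟶ (stkF x).obj N)

/-- The comparison over the ring `S`. -/
def thetaLin (N : X.Modules) : (stkR x e).obj ((hF F).obj N) →ₗ[S] ((stkR x e).obj F ⟶ (stkR x e).obj N) where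
  toFun z := resHom F x e (theta F N x z)
  map_add' z z' := ModuleCat.hom_ext (LinearMap.ext fun f =>
    LinearMap.congr_fun ((theta F N x).map_add z z') f)
  map_smul' r z := ModuleCat.hom_ext (LinearMap.ext fun f =>
    LinearMap.congr_fun ((theta F N x).map_smul (e r) z) f)

theorem thetaLin_bijective (N : X.Modules) (hb : Function.Bijective (theta F N x)) :
    Function.Bijective (thetaLin F x e N) := by
  haveI : (ModuleCat.restrictScalars.{u} e.toRingHom).IsEquivalence :=
    (ModuleCat.restrictScalarsEquivalenceOfRingEquiv e).isEquivalence_functor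
  refine ⟨fun z z' h => hb.1 ?_, fun g => ?_⟩
  · have h2 := congrArg ModuleCat.Hom.hom ((ModuleCat.restrictScalars.{u} e.toRingHom).map_injective h)
    exact h2
  · obtain ⟨g₀, hg⟩ := (ModuleCat.restrictScalars.{u} e.toRingHom).map_surjective g
    obtain ⟨z, hz⟩ := hb.2 g₀.hom
    refine ⟨z, ?_⟩
    show resHom F x e (theta F N x z) = g
    rw [hz, ← hg]
    rfl

/-- The comparison as an isomorphism over the ring `S`. -/
def thetaIso (hb : ∀ N, Function.Bijective (theta F N x)) :
    hF F ⋙ stkR x e ≅ stkR x e ⋙ (linearCoyoneda S (ModuleCat.{u} S)).obj (op ((stkR x e).obj F)) :=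
  NatIso.ofComponents
    (fun N => (LinearEquiv.ofBijective (thetaLin F x e N) (thetaLin_bijective F x e N (hb N))).toModuleIso)
    fun {N N'} g => ModuleCat.hom_ext (LinearMap.ext fun z =>
      ModuleCat.hom_ext (LinearMap.ext fun f => theta_natural F g x z f))

variable [IsLocallyNoetherian X]

theorem theta_bijective (hF : Coh.IsCoh F) (N : X.Modules) : Function.Bijective (theta F N x) := by
  obtain ⟨W, hW, hx, -⟩ := exists_isAffineOpen_mem_and_subset (X := X) (x := x) (U := ⊤) trivial
  haveI := hF.1
  haveI : IsNoetherianRing Γ(X, W) := IsLocallyNoetherian.component_noetherian ⟨W, hW⟩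
  haveI := QCohLib.finite_sections_of_isCoh hF hW
  haveI : Module.FinitePresentation Γ(X, W) Γ(F, W) := Module.finitePresentation_of_finite _ _
  exact ⟨theta_injective F N x hW hx, theta_surjective F N x hW hx⟩

/-- The stalk of the Ext sheaf of a coherent module is the Ext of the stalks. -/
theorem nonempty_stkR_extSh_iso [HasInjectiveResolutions (ModSite.Mod X.sheaf)]
    [HasInjectiveResolutions X.Modules] (hF : Coh.IsCoh F) (G : X.Modules) (i : ℕ) :
    Nonempty ((stkR x e).obj (((ModSite.extSh (O := X.sheaf) F i).obj G : ModSite.Mod X.sheaf) : X.Modules) ≅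
      ModuleCat.of S (Ext ((stkR x e).obj F) ((stkR x e).obj G) i)) := by
  let R := injectiveResolution G
  let Φ := stkR x e
  haveI : Φ.Additive := inferInstance
  haveI : (StalkHomLib.hF F).Additive :=
    (ModSite.sheafHomAdj (O := X.sheaf) F).right_adjoint_additive
  let R' : InjectiveResolution (Φ.obj G) :=
    { cocomplex := (Φ.mapHomologicalComplex _).obj R.cocomplex
      injective := fun n => injective_stkR x e _ (R.injective n)
      ι := (HomologicalComplex.singleMapHomologicalComplex Φ (ComplexShape.up ℕ) 0).inv.app G ≫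
        (Φ.mapHomologicalComplex _).map R.ι }
  obtain ⟨l⟩ := nonempty_homology_linCx_iso S (Φ.obj F) R' i
  refine ⟨Φ.mapIso (R.isoRightDerivedObj (StalkHomLib.hF F) i) ≪≫ ?_ ≪≫ l⟩
  refine (ShortComplex.mapHomologyIso ((((StalkHomLib.hF F).mapHomologicalComplex _).obj R.cocomplex).sc i) Φ).symm ≪≫ ?_
  exact (HomologicalComplex.homologyFunctor _ _ i).mapIso
    ((NatIso.mapHomologicalComplex (thetaIso F x e (theta_bijective F x hF)) (ComplexShape.up ℕ)).app R.cocomplex)

end Groth.Agent.StalkHomLib
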