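import Groth.Agent.StalkHomLib.Lift
import Groth.Agent.DCohLib.StalkTensor
import Groth.Agent.DCohLib.StalkRestrictFree
import Groth.Agent.DCohLib.SuppOpen
import Groth.Agent.PullbackMod.OpenLocus
import Groth.Prelude.Def_ModSite2

/-!
# Stalks of the internal Hom
-/

set_option autoImplicit false
set_option backward.isDefEq.respectTransparency false
set_option linter.style.haveILetI false
universe u

open CategoryTheory Limits Opposite TopologicalSpace AlgebraicGeometry MonoidalCategory
open Groth.Agent.PullbackMod Groth.Agent.DCohLib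
open scoped TensorProduct

noncomputable section

namespace Groth.Agent.StalkHomLib

variable {X : Scheme.{u}} (F : X.Modules) [ModSite.HasSheafHom (O := X.sheaf) F]

/-- The internal Hom out of `F`. -/
abbrev hF : X.Modules ⥤ X.Modules := ModSite.sheafHom (O := X.sheaf) F

/-- The evaluation. -/
def ev (N : X.Modules) : tmod ((hF F).obj N) F ⟶ N := (ModSite.sheafHomAdj (O := X.sheaf) F).counit.app N

/-- The comparison of stalks. -/
def theta (N : X.Modules) (x : X) : ((hF F).obj N).presheaf.stalk x →ₗ[X.presheaf.stalk x]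
    (F.presheaf.stalk x →ₗ[X.presheaf.stalk x] N.presheaf.stalk x) :=
  TensorProduct.curry ((stalkLin (ev F N) x).comp (stalkTensor x ((hF F).obj N) F).toLinearMap)

theorem theta_apply (N : X.Modules) (x : X) (z : ((hF F).obj N).presheaf.stalk x) (f : F.presheaf.stalk x) :
    theta F N x z f = stalkLin (ev F N) x (stalkTensor x _ F (z ⊗ₜ f)) := rfl

theorem theta_natural {N N' : X.Modules} (g : N ⟶ N') (x : X) (z : ((hF F).obj N).presheaf.stalk x)
    (f : F.presheaf.stalk x) :
    theta F N' x (stalkLin ((hF F).map g) x z) f = stalkLin g x (theta F N x z f) := by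
  rw [theta_apply, theta_apply]
  have h : ((DCoh.tensorBi (X := X)).map ((hF F).map g)).app F ≫ ev F N' = ev F N ≫ g :=
    (ModSite.sheafHomAdj (O := X.sheaf) F).counit.naturality g
  have h2 := stalkTensor_natural_left x (N := F) ((hF F).map g) (z ⊗ₜ f)
  rw [LinearMap.rTensor_tmul] at h2
  rw [← h2, ← LinearMap.comp_apply, ← stalkLin_comp, h, stalkLin_comp, LinearMap.comp_apply]

/-- A map into the internal Hom is determined by evaluating on stalks. -/
theorem theta_transpose {P N : X.Modules} (a : P ⟶ (hF F).obj N) (x : X) (w : P.presheaf.stalk x)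
    (f : F.presheaf.stalk x) :
    theta F N x (stalkLin a x w) f =
      stalkLin (((ModSite.sheafHomAdj (O := X.sheaf) F).homEquiv P N).symm a : tmod P F ⟶ N) x
        (stalkTensor x P F (w ⊗ₜ f)) := by
  have h : (((ModSite.sheafHomAdj (O := X.sheaf) F).homEquiv P N).symm a : tmod P F ⟶ N) =
      ((DCoh.tensorBi (X := X)).map a).app F ≫ ev F N :=
    (ModSite.sheafHomAdj (O := X.sheaf) F).homEquiv_counit _ _ _
  rw [h, stalkLin_comp, LinearMap.comp_apply, theta_apply]
  refine congrArg _ ?_
  exact ((stalkTensor_natural_left x a (w ⊗ₜ f)).trans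
    (congrArg (stalkTensor x _ F) (LinearMap.rTensor_tmul _ _ _ _))).symm

theorem eq_zero_of_theta {P N : X.Modules} (a : P ⟶ (hF F).obj N)
    (h : ∀ (x : X) (w : P.presheaf.stalk x), theta F N x (stalkLin a x w) = 0) : a = 0 := by
  haveI : ((ModSite.tensorBi X.sheaf).flip.obj F).Additive := by
    haveI : ((DCoh.tensorBi (X := X)).flip.obj F).Additive :=
      ⟨fun {A B f g} => congr_app ((DCoh.tensorBi (X := X)).map_add) F⟩
    assumption
  apply ((ModSite.sheafHomAdj (O := X.sheaf) F).homEquiv P N).symm.injective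
  have h0 : ((ModSite.sheafHomAdj (O := X.sheaf) F).homEquiv P N).symm 0 = 0 :=
    ((ModSite.sheafHomAdj (O := X.sheaf) F).homEquiv_counit _ _ _).trans (by rw [Functor.map_zero, zero_comp])
  rw [h0]
  refine (eq_zero_iff_stalk _).2 fun x => LinearMap.ext fun t => ?_
  obtain ⟨t, rfl⟩ := (stalkTensor x P F).surjective t
  induction t using TensorProduct.induction_on with
  | zero => rw [map_zero]; exact map_zero _
  | tmul w f => exact (theta_transpose F a x w f).symm.trans (LinearMap.congr_fun (h x w) f)
  | add p q hp hq => rw [map_add, map_add]; exact (congrArg₂ (· + ·) hp hq).trans (add_zero _)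

/-- The map of the internal Hom to the product of the skyscrapers of the stalkwise maps. -/
def tau (N : X.Modules) : (hF F).obj N ⟶
    ∏ᶜ fun y : X => sky y (F.presheaf.stalk y →ₗ[X.presheaf.stalk y] N.presheaf.stalk y) :=
  Pi.lift fun y => toSky (theta F N y)

theorem mono_tau (N : X.Modules) : Mono (tau F N) := by
  refine Preadditive.mono_of_kernel_zero (eq_zero_of_theta F (kernel.ι (tau F N)) fun y w => ?_)
  obtain ⟨U, hy, s, rfl⟩ := TopCat.Presheaf.exists_germ_eq (kernel (tau F N)).presheaf w
  rw [stalkLin_germ]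
  have h0 : kernel.ι (tau F N) ≫ toSky (theta F N y) = 0 := by
    rw [show toSky (theta F N y) = tau F N ≫ Pi.π _ y from (by rw [tau, Pi.lift_π]), ← Category.assoc,
      kernel.condition, zero_comp]
  have h1 := congrArg (fun g : kernel (tau F N) ⟶ sky y (F.presheaf.stalk y →ₗ[X.presheaf.stalk y] N.presheaf.stalk y) =>
    (show SkyObj y (F.presheaf.stalk y →ₗ[X.presheaf.stalk y] N.presheaf.stalk y) U from g.app U s) ⟨hy⟩) h0
  exact h1

theorem sect_eq_zero {N : X.Modules} {V : X.Opens} (h : Γ((hF F).obj N, V))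
    (hV : ∀ (y : X) (hy : y ∈ V), theta F N y (((hF F).obj N).presheaf.germ V y hy h) = 0) : h = 0 := by
  haveI := mono_tau F N
  let E : X.Modules ⥤ AddCommGrpCat.{u} := Scheme.Modules.toPresheaf X ⋙ (evaluation _ _).obj (op V)
  haveI := evaluation_preservesLimitsOfShape (K := (Opens X)ᵒᵖ) (C := AddCommGrpCat.{u}) (J := Discrete X) (op V)
  haveI := evaluation_preservesLimitsOfShape (K := (Opens X)ᵒᵖ) (C := AddCommGrpCat.{u}) (J := WalkingCospan) (op V)
  haveI : PreservesLimitsOfShape (Discrete X) E := comp_preservesLimitsOfShape _ _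
  haveI : PreservesLimitsOfShape WalkingCospan E := comp_preservesLimitsOfShape _ _
  haveI : E.PreservesMonomorphisms := preservesMonomorphisms_of_preservesLimitsOfShape E
  have hinj : Function.Injective ((tau F N).app V) := by
    have h1 : Mono (E.map (tau F N)) := inferInstance
    exact (AddCommGrpCat.mono_iff_injective _).1 h1
  refine hinj ?_
  rw [map_zero]
  refine Concrete.isLimit_ext _ (isLimitOfPreserves E (limit.isLimit _)) _ _ fun ⟨y⟩ => ?_
  refine Eq.trans ?_ (map_zero (E.map (Pi.π
    (fun y : X => sky y (F.presheaf.stalk y →ₗ[X.presheaf.stalk y] N.presheaf.stalk y)) y)).hom).symm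
  show ((tau F N) ≫ Pi.π _ y).app V h = 0
  rw [tau, Pi.lift_π]
  exact funext fun hy => hV y hy.down

end Groth.Agent.StalkHomLib
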