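import Mathlib
import Groth.Agent.QCohLib.FiniteType
import Groth.Prelude.Def_FlatMod2


/-!
# Lifting maps from finitely presented modules into stalks
-/

set_option autoImplicit false
universe u

open CategoryTheory Limits Opposite TopologicalSpace AlgebraicGeometry
open Groth.Agent.CohBase

namespace Groth.Agent.StalkHomLib

variable {X : Scheme.{u}}

theorem germ_res (N : X.Modules) {U V : X.Opens} (h : U ≤ V) (x : X) (hx : x ∈ U) (s : Γ(N, V)) :
    N.presheaf.germ U x hx (N.presheaf.map (homOfLE h).op s) = N.presheaf.germ V x (h hx) s :=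
  TopCat.Presheaf.germ_res_apply N.presheaf (homOfLE h) x hx s

theorem germ_smul' (N : X.Modules) {U : X.Opens} (x : X) (hx : x ∈ U) (a : Γ(X, U)) (s : Γ(N, U)) :
    N.presheaf.germ U x hx (a • s) = X.presheaf.germ U x hx a • N.presheaf.germ U x hx s :=
  PresheafOfModules.germ_smul (R := X.presheaf) N.val x U hx a s

theorem map_smul' (N : X.Modules) {U V : X.Opens} (h : U ≤ V) (a : Γ(X, V)) (s : Γ(N, V)) :
    N.presheaf.map (homOfLE h).op (a • s) =
      X.presheaf.map (homOfLE h).op a • N.presheaf.map (homOfLE h).op s :=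
  N.val.map_smul (homOfLE h).op a s

theorem res_res {V V' V'' : X.Opens} (h : V' ≤ V) (h' : V'' ≤ V') (a : Γ(X, V)) :
    X.presheaf.map (homOfLE h').op (X.presheaf.map (homOfLE h).op a) = X.presheaf.map (homOfLE (h'.trans h)).op a := by
  rw [← ConcreteCategory.comp_apply, ← Functor.map_comp]
  rfl

/-- Finitely many sections with vanishing germs vanish on a basic open. -/
theorem exists_basicOpen_vanish (N : X.Modules) {W : X.Opens} (hW : IsAffineOpen W) (x : X) (hx : x ∈ W)
    {ι : Type*} (s : Finset ι) {U : X.Opens} (hU : x ∈ U) (t : ι → Γ(N, U))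
    (ht : ∀ i ∈ s, N.presheaf.germ U x hU (t i) = 0) :
    ∃ (f : Γ(X, W)) (_ : x ∈ X.basicOpen f) (hle : X.basicOpen f ≤ U),
      ∀ i ∈ s, N.presheaf.map (homOfLE hle).op (t i) = 0 := by
  classical
  induction s using Finset.induction_on with
  | empty =>
    obtain ⟨f, hle, hxf⟩ := hW.exists_basicOpen_le (⟨x, hU⟩ : U) hx
    exact ⟨f, hxf, hle, fun i hi => absurd hi (Finset.notMem_empty i)⟩
  | insert a s ha ih =>
    obtain ⟨f, hxf, hle, hf⟩ := ih fun i hi => ht i (Finset.mem_insert_of_mem hi)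
    have h0 := (ht a (Finset.mem_insert_self a s)).trans (map_zero (N.presheaf.germ U x hU).hom).symm
    obtain ⟨V, hxV, i₁, i₂, hV⟩ := TopCat.Presheaf.germ_eq N.presheaf x hU hU (t a) 0 h0
    obtain ⟨g, hg, hxg⟩ := hW.exists_basicOpen_le (⟨x, ⟨hxV, hxf⟩⟩ : ↥(V ⊓ X.basicOpen f)) hx
    refine ⟨g, hxg, hg.trans (inf_le_right.trans hle), fun i hi => ?_⟩
    rcases Finset.mem_insert.1 hi with rfl | hi
    · rw [← restr_trans N (leOfHom i₁) (hg.trans inf_le_left)]
      rw [show N.presheaf.map (homOfLE (leOfHom i₁)).op (t i) = 0 from hV.trans (map_zero _)]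
      exact map_zero _
    · rw [← restr_trans N hle (hg.trans inf_le_right), hf i hi]
      exact map_zero _

theorem exists_lift (N : X.Modules) {W : X.Opens} (hW : IsAffineOpen W) (x : X) (hx : x ∈ W)
    (P : Type u) [AddCommGroup P] [Module Γ(X, W) P] [Module.FinitePresentation Γ(X, W) P]
    (l : P →+ N.presheaf.stalk x)
    (hl : ∀ (a : Γ(X, W)) (p : P), l (a • p) = X.presheaf.germ W x hx a • l p) :
    ∃ (f : Γ(X, W)) (hxf : x ∈ X.basicOpen f) (l' : P →+ Γ(N, X.basicOpen f)),
      (∀ (a : Γ(X, W)) (p : P), l' (a • p) = X.presheaf.map (homOfLE (X.basicOpen_le f)).op a • l' p) ∧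
      ∀ p, N.presheaf.germ (X.basicOpen f) x hxf (l' p) = l p := by
  classical
  obtain ⟨n, gen, hgen⟩ := Module.Finite.exists_fin' Γ(X, W) P
  have hfg := Module.FinitePresentation.fg_ker gen hgen
  obtain ⟨S, hS⟩ := hfg
  choose Ui hUi ni hni using fun i : Fin n => TopCat.Presheaf.exists_germ_eq N.presheaf (l (gen (Pi.single i 1)))
  let U : X.Opens := W ⊓ Finset.univ.inf Ui
  have hxU : x ∈ U := ⟨hx, show x ∈ ((Finset.univ.inf Ui : X.Opens) : Set X) by rw [Opens.coe_finset_inf]; simpa using hUi⟩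
  have hUi' : ∀ i, U ≤ Ui i := fun i => inf_le_right.trans (Finset.inf_le (Finset.mem_univ i))
  let m : Fin n → Γ(N, U) := fun i => N.presheaf.map (homOfLE (hUi' i)).op (ni i)
  let ev : ∀ {V : X.Opens}, V ≤ U → (Fin n → Γ(X, W)) → Γ(N, V) := fun {V} h r =>
    ∑ i, X.presheaf.map (homOfLE (h.trans inf_le_left)).op (r i) • N.presheaf.map (homOfLE h).op (m i)
  have hev : ∀ {V : X.Opens} (h : V ≤ U) (hxV : x ∈ V) (r : Fin n → Γ(X, W)),
      N.presheaf.germ V x hxV (ev h r) = l (gen r) := by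
    intro V h hxV r
    conv_rhs => rw [pi_eq_sum_univ' r, map_sum, map_sum]
    simp only [ev, map_sum]
    refine Finset.sum_congr rfl fun i _ => ?_
    rw [map_smul gen, hl, germ_smul', TopCat.Presheaf.germ_res_apply X.presheaf, germ_res, germ_res, hni]
  obtain ⟨f, hxf, hle, hf⟩ := exists_basicOpen_vanish N hW x hx S hxU (fun r => ev le_rfl r) fun r hr => by
    rw [hev, show gen r = 0 from (hS ▸ Submodule.subset_span hr : r ∈ LinearMap.ker gen), map_zero]
  let ρ : Γ(X, W) →+* Γ(X, X.basicOpen f) := (X.presheaf.map (homOfLE (X.basicOpen_le f)).op).hom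
  letI : Module Γ(X, W) Γ(N, X.basicOpen f) := Module.compHom _ ρ
  let L : (Fin n → Γ(X, W)) →ₗ[Γ(X, W)] Γ(N, X.basicOpen f) :=
    { toFun := ev hle
      map_add' := fun r r' => by simp [ev, map_add, add_smul, Finset.sum_add_distrib]
      map_smul' := fun a r => by
        show ev hle (a • r) = ρ a • ev hle r
        simp only [ev, Finset.smul_sum]
        refine Finset.sum_congr rfl fun i _ => ?_
        rw [Pi.smul_apply, smul_eq_mul, map_mul, mul_smul] }
  have hker : LinearMap.ker gen ≤ LinearMap.ker L := by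
    rw [← hS, Submodule.span_le]
    intro r hr
    show ev hle r = 0
    refine Eq.trans ?_ (hf r hr)
    simp only [ev, map_sum]
    refine Finset.sum_congr rfl fun i _ => ?_
    rw [map_smul', res_res]
    simp only [m, restr_trans]
  obtain ⟨L', hL'⟩ : ∃ L' : P →ₗ[Γ(X, W)] Γ(N, X.basicOpen f), L' ∘ₗ gen = L :=
    ⟨(LinearMap.ker gen).liftQ L hker ∘ₗ (gen.quotKerEquivOfSurjective hgen).symm.toLinearMap,
      LinearMap.ext fun r => by
        show (LinearMap.ker gen).liftQ L hker ((gen.quotKerEquivOfSurjective hgen).symm (gen r)) = L r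
        rw [gen.quotKerEquivOfSurjective_symm_apply hgen]
        rfl⟩
  refine ⟨f, hxf, L'.toAddMonoidHom, fun a p => L'.map_smul a p, fun p => ?_⟩
  obtain ⟨r, rfl⟩ := hgen p
  rw [show L'.toAddMonoidHom (gen r) = ev hle r from LinearMap.congr_fun hL' r]
  exact hev hle hxf r

end Groth.Agent.StalkHomLib
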